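import Mathlib
import Groth.Prelude.Def_EGA41

/-!
`p`-generators and `p`-free families in towers.
-/

set_option autoImplicit false
universe u v

open EGA41

namespace Groth.Agent.PTowerLib

variable {A B : Type u} [CommRing A] [CommRing B] [Algebra A B]

theorem span_eq_top_iff (P : Subalgebra A B) (hP : ∀ z : P, ∃ a, algebraMap A B a = (z : B))
    (S : Set B) : Submodule.span P S = ⊤ ↔ Submodule.span A S = ⊤ := by
  constructor
  · intro h
    rw [eq_top_iff]
    rintro b -
    have hb : b ∈ Submodule.span P S := by rw [h]; trivial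
    induction hb using Submodule.span_induction with
    | mem z hz => exact Submodule.subset_span hz
    | zero => exact zero_mem _
    | add a c _ _ ha hc => exact add_mem ha hc
    | smul z c _ hc =>
        obtain ⟨a, ha⟩ := hP z
        show (z : B) * c ∈ _
        rw [← ha, ← Algebra.smul_def]
        exact Submodule.smul_mem _ a hc
  · intro h
    rw [eq_top_iff]
    rintro b -
    have hb : b ∈ Submodule.span A S := by rw [h]; trivial
    induction hb using Submodule.span_induction with
    | mem z hz => exact Submodule.subset_span hz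
    | zero => exact zero_mem _
    | add a c _ _ ha hc => exact add_mem ha hc
    | smul a c _ hc =>
        rw [Algebra.smul_def]
        exact Submodule.smul_mem _ (⟨algebraMap A B a, P.algebraMap_mem a⟩ : P) hc

theorem linearIndependent_iff_image (P : Subalgebra A B) (hP : ∀ z : P, ∃ a, algebraMap A B a = (z : B))
    {ι : Type v} (v : ι → B) :
    LinearIndependent P v ↔ ∀ (s : Finset ι) (l : ι → A),
      ∑ i ∈ s, algebraMap A B (l i) * v i = 0 → ∀ i ∈ s, algebraMap A B (l i) = 0 := by
  rw [linearIndependent_iff']
  constructor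
  · intro h s l hsum i hi
    have := h s (fun i => ⟨algebraMap A B (l i), P.algebraMap_mem _⟩) hsum i hi
    exact congrArg Subtype.val this
  · intro h s g hsum i hi
    choose l hl using fun i => hP (g i)
    refine Subtype.ext ?_
    rw [← hl i]
    refine h s l ?_ i hi
    simp only [hl]
    exact hsum

theorem exists_of_mem_pPower (p : ℕ) (hpow : ∀ b : B, b ^ p ∈ Set.range (algebraMap A B))
    (z : pPowerSubalgebra p A B) : ∃ a, algebraMap A B a = (z : B) := by
  obtain ⟨z, hz⟩ := z
  induction hz using Algebra.adjoin_induction with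
  | mem w hw => obtain ⟨b, rfl⟩ := hw; exact hpow b
  | algebraMap a => exact ⟨a, rfl⟩
  | add a b _ _ ha hb => obtain ⟨a', ha⟩ := ha; obtain ⟨b', hb⟩ := hb; exact ⟨a' + b', by rw [map_add, ha, hb]⟩
  | mul a b _ _ ha hb => obtain ⟨a', ha⟩ := ha; obtain ⟨b', hb⟩ := hb; exact ⟨a' * b', by rw [map_mul, ha, hb]⟩

/-- Reduced exponent vectors on a sum of index types. -/
noncomputable def pairEquiv (p : ℕ) (ι κ : Type u) :
    {g : ι ⊕ κ →₀ ℕ // ∀ i, g i < p} ≃ {e : ι →₀ ℕ // ∀ i, e i < p} × {f : κ →₀ ℕ // ∀ i, f i < p} where
  toFun g := (⟨(Finsupp.sumFinsuppEquivProdFinsupp g.1).1, fun i => g.2 (Sum.inl i)⟩,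
    ⟨(Finsupp.sumFinsuppEquivProdFinsupp g.1).2, fun i => g.2 (Sum.inr i)⟩)
  invFun q := ⟨Finsupp.sumFinsuppEquivProdFinsupp.symm (q.1.1, q.2.1), fun i => by
    rcases i with i | i
    · simpa using q.1.2 i
    · simpa using q.2.2 i⟩
  left_inv g := Subtype.ext (Finsupp.sumFinsuppEquivProdFinsupp.symm_apply_apply g.1)
  right_inv q := Prod.ext (Subtype.ext (by simp)) (Subtype.ext (by simp))

theorem pMonomial_sum {C : Type u} [CommRing C] [Algebra C B] {ι κ : Type u} (x : ι → C) (y : κ → B)
    (e : ι →₀ ℕ) (f : κ →₀ ℕ) :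
    pMonomial (Sum.elim (fun i => algebraMap C B (x i)) y) (Finsupp.sumFinsuppEquivProdFinsupp.symm (e, f)) =
      algebraMap C B (pMonomial x e) * pMonomial y f := by
  rw [pMonomial, Finsupp.sumFinsuppEquivProdFinsupp_symm_apply, Finsupp.prod_sumElim]
  simp [pMonomial, map_finsuppProd, map_pow, Function.comp_def]

theorem tower (p : ℕ) {C : Type u} [CommRing C] [Algebra A C] [Algebra C B] [IsScalarTower A C B]
    (hinj : Function.Injective (algebraMap C B)) (hpow : ∀ b : B, b ^ p ∈ Set.range (algebraMap A B))
    {ι κ : Type u} (x : ι → C) (y : κ → B) :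
    (IsPGenerating p A x → IsPGenerating p C y →
      IsPGenerating p A (Sum.elim (fun i => algebraMap C B (x i)) y)) ∧
    (IsPBasis p A x →
      (IsPIndependent p C y ↔ IsPIndependent p A (Sum.elim (fun i => algebraMap C B (x i)) y))) := by
  classical
  have hAB : ∀ a, algebraMap A B a = algebraMap C B (algebraMap A C a) :=
    IsScalarTower.algebraMap_apply A C B
  have hpowC : ∀ c : C, c ^ p ∈ Set.range (algebraMap A C) := fun c => by
    obtain ⟨a, ha⟩ := hpow (algebraMap C B c)
    exact ⟨a, hinj (by rw [← hAB, ha, map_pow])⟩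
  have hpowCB : ∀ b : B, b ^ p ∈ Set.range (algebraMap C B) := fun b => by
    obtain ⟨a, ha⟩ := hpow b; exact ⟨algebraMap A C a, by rw [← hAB, ha]⟩
  have hmon : ∀ q, pMonomial (Sum.elim (fun i => algebraMap C B (x i)) y) ((pairEquiv p ι κ).symm q).1 =
      algebraMap C B (pMonomial x q.1.1) * pMonomial y q.2.1 := fun q => pMonomial_sum x y q.1.1 q.2.1
  unfold IsPBasis IsPGenerating IsPIndependent
  rw [span_eq_top_iff _ (exists_of_mem_pPower p hpowC), span_eq_top_iff _ (exists_of_mem_pPower p hpowCB),
    span_eq_top_iff _ (exists_of_mem_pPower p hpow),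
    linearIndependent_iff_image _ (exists_of_mem_pPower p hpowC),
    linearIndependent_iff_image _ (exists_of_mem_pPower p hpowCB),
    linearIndependent_iff_image _ (exists_of_mem_pPower p hpow)]
  constructor
  · intro hx hy
    rw [eq_top_iff]
    rintro b -
    have hb : b ∈ Submodule.span C (Set.range fun f : {f : κ →₀ ℕ // ∀ i, f i < p} => pMonomial y f.1) := by
      rw [hy]; trivial
    obtain ⟨l, rfl⟩ := Finsupp.mem_span_range_iff_exists_finsupp.mp hb
    refine Submodule.sum_mem _ fun f _ => ?_
    show l f • pMonomial y f.1 ∈ _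
    rw [Algebra.smul_def]
    have hc : l f ∈ Submodule.span A (Set.range fun e : {e : ι →₀ ℕ // ∀ i, e i < p} => pMonomial x e.1) := by
      rw [hx]; trivial
    generalize l f = c at hc ⊢
    induction hc using Submodule.span_induction with
    | zero => simp
    | add a c _ _ ha hc => rw [map_add, add_mul]; exact add_mem ha hc
    | smul a c _ hc =>
        rw [Algebra.smul_def, map_mul, ← hAB, mul_assoc, ← Algebra.smul_def]
        exact Submodule.smul_mem _ a hc
    | mem z hz => obtain ⟨e, rfl⟩ := hz; exact Submodule.subset_span ⟨_, hmon (e, f)⟩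
  · rintro ⟨hxi, hxg⟩
    constructor
    · intro hy s l hsum g hg
      let q := pairEquiv p ι κ
      let t := s.image q
      have hsum' : ∑ f ∈ t.image Prod.snd,
          algebraMap C B (∑ e ∈ t.image Prod.fst,
            if (e, f) ∈ t then algebraMap A C (l (q.symm (e, f))) * pMonomial x e.1 else 0) * pMonomial y f.1 = 0 := by
        refine Eq.trans ?_ hsum
        simp only [map_sum, Finset.sum_mul, apply_ite (algebraMap C B), map_zero, ite_mul, zero_mul, map_mul, ← hAB]
        rw [Finset.sum_comm, ← Finset.sum_product' (f := fun e f => if (e, f) ∈ t then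
          algebraMap A B (l (q.symm (e, f))) * algebraMap C B (pMonomial x e.1) * pMonomial y f.1 else 0),
          Finset.sum_ite_mem, Finset.inter_eq_right.mpr
            (fun z hz => Finset.mem_product.mpr ⟨Finset.mem_image_of_mem _ hz, Finset.mem_image_of_mem _ hz⟩),
          Finset.sum_image q.injective.injOn]
        refine Finset.sum_congr rfl fun g _ => ?_
        rw [mul_assoc, ← hmon (q g)]
        simp [q]
      have h1 := hy _ _ hsum' (q g).2 (Finset.mem_image_of_mem _ (Finset.mem_image_of_mem q hg))
      rw [map_eq_zero_iff _ hinj] at h1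
      have h2 := hxi (t.image Prod.fst)
        (fun e => if (e, (q g).2) ∈ t then l (q.symm (e, (q g).2)) else 0) (by
          simpa only [apply_ite (algebraMap A C), map_zero, ite_mul, zero_mul] using h1)
        (q g).1 (Finset.mem_image_of_mem _ (Finset.mem_image_of_mem q hg))
      rw [if_pos (Finset.mem_image_of_mem q hg)] at h2
      have h3 : q.symm ((q g).1, (q g).2) = g := q.symm_apply_apply g
      rw [h3] at h2
      rw [hAB, h2, map_zero]
    · intro h s c hsum f hf
      have hc : ∀ f, c f ∈ Submodule.span A (Set.range fun e : {e : ι →₀ ℕ // ∀ i, e i < p} => pMonomial x e.1) :=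
        fun f => by rw [hxg]; trivial
      choose a ha using fun f => (Finsupp.mem_span_range_iff_exists_finsupp.mp (hc f))
      let q := pairEquiv p ι κ
      let E : Finset {e : ι →₀ ℕ // ∀ i, e i < p} := s.biUnion fun f => (a f).support
      have hcf : ∀ f ∈ s, c f = ∑ e ∈ E, algebraMap A C (a f e) * pMonomial x e.1 := fun f hf => by
        rw [← ha f, Finsupp.sum_of_support_subset _ (Finset.subset_biUnion_of_mem (fun f => (a f).support) hf) _ (by simp)]
        simp [E, Algebra.smul_def]
      have h0 := h ((E ×ˢ s).image q.symm) (fun g => a (q g).2 (q g).1) (by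
        refine Eq.trans ?_ hsum
        rw [Finset.sum_image q.symm.injective.injOn, Finset.sum_product, Finset.sum_comm]
        refine Finset.sum_congr rfl fun f hf => ?_
        rw [hcf f hf, map_sum, Finset.sum_mul]
        refine Finset.sum_congr rfl fun e _ => ?_
        rw [Equiv.apply_symm_apply, hmon (e, f), map_mul, ← hAB, mul_assoc])
      rw [map_eq_zero_iff _ hinj, hcf f hf]
      refine Finset.sum_eq_zero fun e he => ?_
      have h1 := h0 (q.symm (e, f)) (Finset.mem_image_of_mem _ (Finset.mem_product.mpr ⟨he, hf⟩))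
      simp only [Equiv.apply_symm_apply, hAB, map_eq_zero_iff _ hinj] at h1
      rw [h1, zero_mul]

end Groth.Agent.PTowerLib
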